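import Groth.Agent.Lib.FMAffine2.Nat
import Groth.Agent.Lib.CMReg18.RegPn
import Groth.Agent.Lib.FreeSec5.Basic

/-!
# Vanishing of the higher direct images of a kernel after an arbitrary base change
-/

set_option autoImplicit false
set_option linter.style.haveILetI false
set_option linter.unusedSectionVars false
set_option backward.isDefEq.respectTransparency false
set_option backward.isDefEq.respectTransparency.types false
set_option maxHeartbeats 1000000

universe u

open CategoryTheory CategoryTheory.Limits AlgebraicGeometry TopologicalSpace Opposite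

namespace Groth.Agent.FunMor5

open Groth.Agent

theorem isZero_rpushAb_of_rpush {X Y : Scheme.{u}} (f : X ⟶ Y) [HasInjectiveResolutions X.Modules]
    (M : X.Modules) (p : ℕ) (h : IsZero ((Coh.Rpush f p).obj M)) :
    IsZero ((Coh.RpushAb f p).obj (Coh.toAb M)) := by
  obtain ⟨a⟩ := CohFound.nonempty_abF_rpush_iso_shPre f M p
  obtain ⟨b⟩ := CohFound.nonempty_rpush_iso_shPre (f.base : CohFound.sp X ⟶ CohFound.sp Y)
    ((CohFound.abF X).obj M) p
  let c : (CohFound.abF Y).obj ((Coh.Rpush f p).obj M) ≅ (Coh.RpushAb f p).obj (Coh.toAb M) := a ≪≫ b.symm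
  haveI : (CohFound.abF Y).PreservesZeroMorphisms :=
    inferInstanceAs (SheafOfModules.toSheaf Y.ringCatSheaf).PreservesZeroMorphisms
  exact IsZero.of_iso ((CohFound.abF Y).map_isZero h) c.symm

theorem isAffineOpen_preimage_inf {S T Y : Scheme.{u}} [IsAffine S] (t : T ⟶ S) (y : Y ⟶ S)
    (A : T.Opens) (B : Y.Opens) (hA : IsAffineOpen A) (hB : IsAffineOpen B) :
    IsAffineOpen (pullback.fst t y ⁻¹ᵁ A ⊓ pullback.snd t y ⁻¹ᵁ B) := by
  haveI : IsAffine A.toScheme := hA
  haveI : IsAffineHom ((pullback.fst t y ⁻¹ᵁ A).ι ≫ pullback.snd t y) :=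
    MorphismProperty.of_isPullback
      (((isPullback_morphismRestrict (pullback.fst t y) A).flip).paste_horiz (IsPullback.of_hasPullback t y).flip).flip
      (inferInstanceAs (IsAffineHom (A.ι ≫ t)))
  have h := (hB.preimage ((pullback.fst t y ⁻¹ᵁ A).ι ≫ pullback.snd t y)).image_of_isOpenImmersion
    (pullback.fst t y ⁻¹ᵁ A).ι
  rwa [Scheme.Hom.comp_preimage, VanFib13.image_preimage, inf_comm] at h

/-- `a_*(a^*-pullback of F ⊗ g^* K) ≅ p^*(b_* F) ⊗ K` for an affine `b`. -/
theorem nonempty_push_iso {X Z U Q : Scheme.{u}} {b : U ⟶ X} [IsAffineHom b] {p : Z ⟶ X} {g : Q ⟶ Z} {p' : Q ⟶ U}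
    (h : IsPullback p' g b p) (F : U.Modules) (hF : Coh.IsQCoh F) (K : Z.Modules) (hK : Coh.IsQCoh K) :
    Nonempty ((Scheme.Modules.pushforward g).obj
        (CohB1.tensorMod ((Scheme.Modules.pullback p').obj F) ((Scheme.Modules.pullback g).obj K)) ≅
      CohB1.tensorMod ((Scheme.Modules.pullback p).obj ((Scheme.Modules.pushforward b).obj F)) K) := by
  haveI : IsAffineHom g := MorphismProperty.of_isPullback h inferInstance
  haveI : IsIso (FMAffine2.theta h F) := PullBC11.isIso_bcMap h F hF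
  haveI : IsIso (FMAffine2.rho g K ((Scheme.Modules.pullback p').obj F)) :=
    FMAffine2.isIso_rho g K hK _ (M1.isQCoh_pullback p' hF)
  exact ⟨(asIso (FMAffine2.rho g K ((Scheme.Modules.pullback p').obj F))).symm ≪≫
    (PicGrp.tensorModIso (asIso (FMAffine2.theta h F)) (Iso.refl K)).symm⟩

section

variable {S T X Y : Scheme.{u}} [IsAffine S] (t : T ⟶ S) (x : X ⟶ S) (y : Y ⟶ S)
  [QuasiCompact x] [QuasiSeparated x] (K : (pullback x y).Modules) (hK : Coh.IsQCoh K)

include hK

theorem main [HasInjectiveResolutions (pullback x y).Modules]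
    (hKac : ∀ (F : X.Modules), Coh.IsQCoh F → ∀ q : ℕ, 0 < q →
      IsZero ((Coh.Rpush (pullback.snd x y) q).obj
        (CohB1.tensorMod ((Scheme.Modules.pullback (pullback.fst x y)).obj F) K)))
    [HasInjectiveResolutions (pullback (pullback.snd t x) (pullback.fst x y)).Modules]
    (π : pullback (pullback.snd t x) (pullback.fst x y) ⟶ pullback t y)
    (h₁ : π ≫ pullback.fst t y = pullback.fst _ _ ≫ pullback.fst t x)
    (h₂ : π ≫ pullback.snd t y = pullback.snd _ _ ≫ pullback.snd x y)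
    (F : (pullback t x).Modules) (hF : Coh.IsQCoh F) (q : ℕ) (hq : 0 < q) :
    IsZero ((Coh.Rpush π q).obj
      (CohB1.tensorMod ((Scheme.Modules.pullback (pullback.fst (pullback.snd t x) (pullback.fst x y))).obj F)
        ((Scheme.Modules.pullback (pullback.snd (pullback.snd t x) (pullback.fst x y))).obj K))) := by
  let P := pullback (pullback.snd t x) (pullback.fst x y)
  let a : P ⟶ pullback t x := pullback.fst _ _
  let c : P ⟶ pullback x y := pullback.snd _ _
  have S1 : IsPullback a c (pullback.snd t x) (pullback.fst x y) := IsPullback.of_hasPullback _ _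
  have S4 : IsPullback π c (pullback.snd t y) (pullback.snd x y) := by
    refine IsPullback.of_right (h₁₂ := pullback.fst t y) (v₁₃ := t) (h₂₂ := y) ?_ h₂ (IsPullback.of_hasPullback t y)
    rw [h₁, ← pullback.condition (f := x) (g := y)]
    exact S1.paste_horiz (IsPullback.of_hasPullback t x)
  haveI : QuasiCompact π := MorphismProperty.of_isPullback S4.flip inferInstance
  haveI : QuasiSeparated π := MorphismProperty.of_isPullback S4.flip inferInstance
  have hM : Coh.IsQCoh (CohB1.tensorMod ((Scheme.Modules.pullback a).obj F) ((Scheme.Modules.pullback c).obj K)) :=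
    M2.isQCoh_tensor (M1.isQCoh_pullback a hF) (M1.isQCoh_pullback c hK)
  refine FreeSec5.isZero_rpush_of_rpushAb π _ q (CohFound.isZero_rpushAb_of_cover π _ hM
    (fun i : T.affineOpens × Y.affineOpens => pullback.fst t y ⁻¹ᵁ i.1.1 ⊓ pullback.snd t y ⁻¹ᵁ i.2.1) ?_ ?_ q ?_)
  · intro i
    exact isAffineOpen_preimage_inf t y i.1.1 i.2.1 i.1.2 i.2.2
  · intro z
    obtain ⟨A, hA, hzA, -⟩ := exists_isAffineOpen_mem_and_subset (x := pullback.fst t y z) (U := ⊤) trivial
    obtain ⟨B, hB, hzB, -⟩ := exists_isAffineOpen_mem_and_subset (x := pullback.snd t y z) (U := ⊤) trivial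
    exact ⟨⟨⟨A, hA⟩, ⟨B, hB⟩⟩, hzA, hzB⟩
  rintro ⟨⟨A, hA⟩, ⟨B, hB⟩⟩
  let W : (pullback t y).Opens := pullback.fst t y ⁻¹ᵁ A ⊓ pullback.snd t y ⁻¹ᵁ B
  change Subsingleton (CohFound.Hc ((CohFound.abF _).obj
    ((CohB1.tensorMod ((Scheme.Modules.pullback a).obj F) ((Scheme.Modules.pullback c).obj K)).restrict
      (π ⁻¹ᵁ W).ι)) q ⊤)
  let U : (pullback t x).Opens := pullback.fst t x ⁻¹ᵁ A
  let b : U.toScheme ⟶ X := U.ι ≫ pullback.snd t x
  haveI : IsAffineHom b := by
    haveI : IsAffine A.toScheme := hA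
    exact MorphismProperty.of_isPullback
      (((isPullback_morphismRestrict (pullback.fst t x) A).flip).paste_horiz (IsPullback.of_hasPullback t x).flip).flip
      (inferInstanceAs (IsAffineHom (A.ι ≫ t)))
  let j := (a ⁻¹ᵁ U).ι
  let g := j ≫ c
  let p' := a ∣_ U
  have hsq : IsPullback p' g b (pullback.fst x y) :=
    (((isPullback_morphismRestrict a U).flip).paste_horiz S1.flip).flip
  haveI : IsAffineHom g := MorphismProperty.of_isPullback hsq inferInstance
  let F' := (Scheme.Modules.pullback U.ι).obj F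
  have hF' : Coh.IsQCoh F' := M1.isQCoh_pullback U.ι hF
  obtain ⟨e₁⟩ := nonempty_push_iso hsq F' hF' K hK
  let N := CohB1.tensorMod ((Scheme.Modules.pullback p').obj F') ((Scheme.Modules.pullback g).obj K)
  haveI : N.IsQuasicoherent := M2.isQCoh_tensor (M1.isQCoh_pullback p' hF') (M1.isQCoh_pullback g hK)
  let e₂ : (CohB1.tensorMod ((Scheme.Modules.pullback a).obj F) ((Scheme.Modules.pullback c).obj K)).restrict j ≅ N :=
    (Scheme.Modules.restrictFunctorIsoPullback j).app _ ≪≫ M2.pullTensorIso j _ _ ≪≫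
      PicGrp.tensorModIso
        ((Scheme.Modules.pullbackComp j a).app F ≪≫
          (Scheme.Modules.pullbackCongr (morphismRestrict_ι a U).symm).app F ≪≫
            ((Scheme.Modules.pullbackComp p' U.ι).app F).symm)
        ((Scheme.Modules.pullbackComp j c).app K)
  let G := (Scheme.Modules.pushforward b).obj F'
  have hG : Coh.IsQCoh G := M1.isQCoh_push b hF'
  have hV := ((CMReg18.isZero_rpushAb_iff_affine (pullback.snd x y)
    (M2.isQCoh_tensor (M1.isQCoh_pullback (pullback.fst x y) hG) hK) q).1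
    (isZero_rpushAb_of_rpush _ _ q (hKac G hG q hq))) B hB
  let V : (pullback x y).Opens := pullback.snd x y ⁻¹ᵁ B
  have eπ : π ⁻¹ᵁ W = j ''ᵁ (g ⁻¹ᵁ V) := by
    have hx : π ⁻¹ᵁ W = (π ≫ pullback.fst t y) ⁻¹ᵁ A ⊓ (π ≫ pullback.snd t y) ⁻¹ᵁ B := rfl
    rw [hx, h₁, h₂]
    show a ⁻¹ᵁ U ⊓ c ⁻¹ᵁ V = j ''ᵁ (j ⁻¹ᵁ (c ⁻¹ᵁ V))
    rw [VanFib13.image_preimage, inf_comm]
  obtain ⟨r₁⟩ := CohFound.nonempty_hc_abF_restrict (π ⁻¹ᵁ W).ι
    (CohB1.tensorMod ((Scheme.Modules.pullback a).obj F) ((Scheme.Modules.pullback c).obj K)) q ⊤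
  rw [Scheme.Hom.image_top_eq_opensRange, Scheme.Opens.opensRange_ι] at r₁
  obtain ⟨r₂⟩ := CohFound.nonempty_hc_abF_restrict j
    (CohB1.tensorMod ((Scheme.Modules.pullback a).obj F) ((Scheme.Modules.pullback c).obj K)) q (g ⁻¹ᵁ V)
  rw [← eπ] at r₂
  let r₃ := CohFound.mpEquiv ((CohFound.abF _).mapIso e₂) q (g ⁻¹ᵁ V)
  obtain ⟨r₄⟩ := CohFound.nonempty_hc_push_isAffineHom g N q V
  let r₅ := CohFound.mpEquiv ((CohFound.abF _).mapIso e₁) q V
  obtain ⟨r₆⟩ := CohFound.nonempty_hc_abF_restrict V.ι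
    (CohB1.tensorMod ((Scheme.Modules.pullback (pullback.fst x y)).obj G) K) q ⊤
  rw [Scheme.Hom.image_top_eq_opensRange, Scheme.Opens.opensRange_ι] at r₆
  haveI := (CohFound.subsingleton_HH_iff _ _).1 hV
  exact (r₁.trans (r₂.symm.trans (r₃.trans (r₄.symm.trans (r₅.trans r₆.symm))))).injective.subsingleton

end

end Groth.Agent.FunMor5
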