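import Groth.Agent.Lib.FunMor5.Basic
import Groth.Agent.Lib.FlatKer2.Basic
import Groth.Agent.Lib.Exact8.StalkBC2
import Groth.Agent.Lib.ParaFDesc27.QcqsBC
import Groth.Agent.Lib.CohMop.HomCoh
import Groth.Agent.Lib.Twist.Pullback

/-!
# A kernel with vanishing higher direct images is generated by its direct image
-/

set_option autoImplicit false
set_option linter.style.haveILetI false
set_option linter.unusedSectionVars false
set_option backward.isDefEq.respectTransparency false
set_option backward.isDefEq.respectTransparency.types false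
set_option maxHeartbeats 1000000

universe u

open CategoryTheory CategoryTheory.Limits AlgebraicGeometry TopologicalSpace Opposite
attribute [local instance] HasDerivedCategory.standard

namespace Groth.Agent.FunMor5

open Groth.Agent

theorem epi_unitToPush {X Z : Scheme.{u}} (i : Z ⟶ X) [IsClosedImmersion i] : Epi (ClSub.unitToPush i) := by
  refine (M1.epi_iff_locally_surjective _).mpr fun U t x hx => ?_
  obtain ⟨W, hW, hxW, hWU⟩ := exists_isAffineOpen_mem_and_subset hx
  obtain ⟨s, hs⟩ := i.app_surjective W hW
    (((Scheme.Modules.pushforward i).obj (Coh.structureModule Z)).presheaf.map (homOfLE hWU).op t)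
  exact ⟨W, hWU, hxW, s, hs⟩

theorem exists_epi {R : Type u} [CommRing R] {X Y : Scheme.{u}} (x : X ⟶ Spec (CommRingCat.of R))
    (y : Y ⟶ Spec (CommRingCat.of R))
    [QuasiCompact x] [IsSeparated x] [Flat x] [HasInjectiveResolutions (pullback x y).Modules]
    (K : (pullback x y).Modules) (hK : Coh.IsQCoh K) (hKf : FlatMod.IsFlatOver (pullback.fst x y) K)
    (hKac : ∀ (M : X.Modules), Coh.IsQCoh M → ∀ q : ℕ, 0 < q →
      IsZero ((Coh.Rpush (pullback.snd x y) q).obj
        (CohB1.tensorMod ((Scheme.Modules.pullback (pullback.fst x y)).obj M) K))) :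
    ∃ φ : CohB1.tensorMod ((Scheme.Modules.pullback (pullback.fst x y)).obj (Coh.structureModule X))
        ((Scheme.Modules.pullback (pullback.snd x y)).obj ((Coh.push (pullback.snd x y)).obj K)) ⟶ K, Epi φ := by
  let a := pullback.fst (pullback.snd x x) (pullback.fst x y)
  let c := pullback.snd (pullback.snd x x) (pullback.fst x y)
  let q := pullback.snd x y
  have S1 : IsPullback a c (pullback.snd x x) (pullback.fst x y) := IsPullback.of_hasPullback _ _
  have hπ : (a ≫ pullback.fst x x) ≫ x = (c ≫ q) ≫ y := by
    rw [Category.assoc, Category.assoc, pullback.condition (f := x) (g := x), ← pullback.condition (f := x) (g := y),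
      ← Category.assoc, ← Category.assoc, S1.w]
  let π : pullback (pullback.snd x x) (pullback.fst x y) ⟶ pullback x y :=
    pullback.lift (a ≫ pullback.fst x x) (c ≫ q) hπ
  have h₁ : π ≫ pullback.fst x y = a ≫ pullback.fst x x := pullback.lift_fst _ _ _
  have h₂ : π ≫ pullback.snd x y = c ≫ pullback.snd x y := pullback.lift_snd _ _ _
  haveI : HasInjectiveResolutions (pullback (pullback.snd x x) (pullback.fst x y)).Modules :=
    CohFound.hasInjectiveResolutions_modules _
  -- the short exact sequence of the diagonal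
  let Δ : X ⟶ pullback x x := pullback.diagonal x
  haveI := epi_unitToPush Δ
  let u := ClSub.unitToPush Δ
  have hS : (ShortComplex.mk (kernel.ι u) u (kernel.condition u)).ShortExact :=
    { exact := ShortComplex.exact_kernel u }
  have hO := M1.isQCoh_structureModule (pullback x x)
  have hI : Coh.IsQCoh (kernel u) := M1.isQCoh_kernel hO (M1.isQCoh_push Δ (M1.isQCoh_structureModule X)) u
  -- its image on the triple product
  let K' := (Scheme.Modules.pullback c).obj K
  have hflat : FlatMod.IsFlatOver a K' := Exact8.isFlatOver_pullback S1.flip hKf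
  let G := FlatKer2.G a K'
  haveI : (Scheme.Modules.pullback a).IsLeftAdjoint :=
    (Scheme.Modules.pullbackPushforwardAdjunction a).isLeftAdjoint
  haveI : (DCoh.tensorRightMod K').IsLeftAdjoint := by
    haveI := CohMop.isLeftAdjoint_tenR K'
    exact Functor.isLeftAdjoint_of_iso (KFlat.Sch.tensorRightModIso K')
  haveI : PreservesFiniteColimits G := inferInstance
  haveI : G.Additive := Functor.additive_of_preserves_binary_products _
  obtain ⟨he, hepi⟩ := (Functor.preservesFiniteColimits_iff_forall_exact_map_and_epi G).1 inferInstance _ hS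
  haveI : Mono (kernel.ι u) := inferInstance
  have hGS : ((ShortComplex.mk (kernel.ι u) u (kernel.condition u)).map G).ShortExact :=
    ShortComplex.ShortExact.mk' he (FlatKer2.mono_G_map a K' hflat (kernel.ι u)) hepi
  have hepi' := FreeSec5.epi_push_of_isZero π hGS (main x x y K hK hKac π h₁ h₂ (kernel u) hI 1 Nat.one_pos)
  change Epi ((Scheme.Modules.pushforward π).map (G.map u)) at hepi'
  -- the source
  have S4 : IsPullback π c (pullback.snd x y) (pullback.snd x y) := by
    refine IsPullback.of_right (h₁₂ := pullback.fst x y) (v₁₃ := x) (h₂₂ := y) ?_ h₂ (IsPullback.of_hasPullback x y)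
    rw [h₁, ← pullback.condition (f := x) (g := y)]
    exact S1.paste_horiz (IsPullback.of_hasPullback x x)
  haveI : Coh.IsQCoh K := hK
  haveI := ParaFDesc27.isIso_bc0_of_flat S4.flip K
  let e₀ : G.obj (Coh.structureModule (pullback x x)) ≅ K' :=
    PicGrp.tensorModIso (Twist.pullbackUnitIso a) (Iso.refl K') ≪≫ M2.tensorLUnit K'
  let src : CohB1.tensorMod ((Scheme.Modules.pullback (pullback.fst x y)).obj (Coh.structureModule X))
      ((Scheme.Modules.pullback q).obj ((Coh.push q).obj K)) ≅
        (Scheme.Modules.pushforward π).obj (G.obj (Coh.structureModule (pullback x x))) :=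
    PicGrp.tensorModIso (Twist.pullbackUnitIso (pullback.fst x y)) (Iso.refl _) ≪≫ M2.tensorLUnit _ ≪≫
      asIso (CohBC.bc0 q q π c S4.flip.w K) ≪≫ (Scheme.Modules.pushforward π).mapIso e₀.symm
  -- the target
  let δ : pullback x y ⟶ pullback (pullback.snd x x) (pullback.fst x y) :=
    pullback.lift (pullback.fst x y ≫ Δ) (𝟙 _) (by simp [Δ])
  have hδa : δ ≫ a = pullback.fst x y ≫ Δ := pullback.lift_fst _ _ _
  have hδc : δ ≫ c = 𝟙 _ := pullback.lift_snd _ _ _
  have hΔ : Δ ≫ pullback.snd x x = 𝟙 X := pullback.diagonal_snd x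
  have S5 : IsPullback (pullback.fst x y) δ Δ a := by
    refine (IsPullback.of_right (h₁₂ := c) (v₁₃ := pullback.fst x y) (h₂₂ := pullback.snd x x) ?_ hδa S1.flip).flip
    rw [hδc, hΔ]
    exact IsPullback.of_horiz_isIso ⟨by simp⟩
  have hδπ : δ ≫ π = 𝟙 _ := by
    refine pullback.hom_ext ?_ ?_
    · rw [Category.assoc, h₁, ← Category.assoc, hδa, Category.assoc, pullback.diagonal_fst, Category.comp_id,
        Category.id_comp]
    · rw [Category.assoc, h₂, ← Category.assoc, hδc]
  obtain ⟨e₁⟩ := nonempty_push_iso S5 (Coh.structureModule X) (M1.isQCoh_structureModule X) K'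
    (M1.isQCoh_pullback c hK)
  let e₂ : CohB1.tensorMod ((Scheme.Modules.pullback (pullback.fst x y)).obj (Coh.structureModule X))
      ((Scheme.Modules.pullback δ).obj K') ≅ K :=
    PicGrp.tensorModIso (Twist.pullbackUnitIso (pullback.fst x y))
      ((Scheme.Modules.pullbackComp δ c).app K ≪≫ (Scheme.Modules.pullbackCongr hδc).app K ≪≫
        (Scheme.Modules.pullbackId _).app K) ≪≫ M2.tensorLUnit K
  let tgt : (Scheme.Modules.pushforward π).obj (G.obj ((Scheme.Modules.pushforward Δ).obj (Coh.structureModule X))) ≅ K :=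
    (Scheme.Modules.pushforward π).mapIso e₁.symm ≪≫ (Scheme.Modules.pushforwardComp δ π).app _ ≪≫
      (Scheme.Modules.pushforwardCongr hδπ).app _ ≪≫ (Scheme.Modules.pushforwardId _).app _ ≪≫ e₂
  exact ⟨src.hom ≫ (Scheme.Modules.pushforward π).map (G.map u) ≫ tgt.hom, inferInstance⟩

end Groth.Agent.FunMor5
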